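/-
Order 4320 (S0977): the arithmetic.  `o57_arith4320`, header frozen in `notes/O57_headers.md`.
The core is one kernel computation over the finitely many signed degrees and values.
-/
import Mathlib

set_option autoImplicit false

namespace Cfsg.Agent.O57

/-- signed degree candidates -/
def o57_a43_L : List ℤ := [6, 16, 36, 96, 216, -4, -9, -24, -54, -144, -864]

/-- the candidates for the value at the involution: `|v| - 4 k`, `0 ≤ k ≤ |v| / 2` -/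
def o57_a43_B (v : ℤ) : List ℤ :=
  (List.range (v.natAbs / 2 + 1)).map (fun k : ℕ => (v.natAbs : ℤ) - 4 * (k : ℤ))

/-- the sign -/
def o57_a43_sg (v : ℤ) : ℤ := if 0 < v then 1 else -1

/-- product of the degrees -/
def o57_a43_P (v2 v3 v4 v5 : ℤ) : ℤ := |v2| * |v3| * |v4| * |v5|

/-- right hand side of the count -/
def o57_a43_R (v2 v3 v4 v5 b2 b3 b4 b5 : ℤ) : ℤ :=
  4320 * (|v2| * |v3| * |v4| * |v5| + o57_a43_sg v2 * b2 ^ 2 * (|v3| * |v4| * |v5|) +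
    o57_a43_sg v3 * b3 ^ 2 * (|v2| * |v4| * |v5|) + o57_a43_sg v4 * b4 ^ 2 * (|v2| * |v3| * |v5|) +
    o57_a43_sg v5 * b5 ^ 2 * (|v2| * |v3| * |v4|))

/-- the column sum -/
def o57_a43_S (b2 b3 b4 b5 : ℤ) : ℤ := 1 + b2 ^ 2 + b3 ^ 2 + b4 ^ 2 + b5 ^ 2

set_option maxRecDepth 100000 in
/-- **the kernel computation** -/
theorem o57_a43_core : ∀ v2 ∈ o57_a43_L, ∀ v3 ∈ o57_a43_L, ∀ v4 ∈ o57_a43_L, ∀ v5 ∈ o57_a43_L,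
    1 + v2 + v3 + v4 + v5 = 0 →
    ∀ b2 ∈ o57_a43_B v2, ∀ b3 ∈ o57_a43_B v3, ∀ b4 ∈ o57_a43_B v4, ∀ b5 ∈ o57_a43_B v5,
    1 + o57_a43_sg v2 * b2 + o57_a43_sg v3 * b3 + o57_a43_sg v4 * b4 + o57_a43_sg v5 * b5 = 0 →
    (o57_a43_R v2 v3 v4 v5 b2 b3 b4 b5 <
        5 * o57_a43_P v2 v3 v4 v5 * (o57_a43_S b2 b3 b4 b5) ^ 2) ∨
    (o57_a43_R v2 v3 v4 v5 b2 b3 b4 b5 < 5 * o57_a43_P v2 v3 v4 v5 * 107 ^ 2 ∧
      ∀ C ∈ List.range 107, ¬ (o57_a43_S b2 b3 b4 b5 ≤ (C : ℤ) ∧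
        5 * (C : ℤ) ^ 2 * o57_a43_P v2 v3 v4 v5 = o57_a43_R v2 v3 v4 v5 b2 b3 b4 b5)) := by
  decide +kernel

/-- divisors of `32` -/
theorem o57_a43_div32 (a : ℕ) (ha : a ∣ 32) :
    a = 1 ∨ a = 2 ∨ a = 4 ∨ a = 8 ∨ a = 16 ∨ a = 32 := by
  have h1 : a ≤ 32 := Nat.le_of_dvd (by norm_num) ha
  interval_cases a <;> omega

/-- divisors of `27` -/
theorem o57_a43_div27 (a : ℕ) (ha : a ∣ 27) : a = 1 ∨ a = 3 ∨ a = 9 ∨ a = 27 := by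
  have h1 : a ≤ 27 := Nat.le_of_dvd (by norm_num) ha
  interval_cases a <;> omega

/-- the signed degree is a candidate -/
theorem o57_a43_cand (d : ℕ) (s : ℤ) (hd : d ∣ 864) (h2 : 2 ≤ d) (hs : s = 1 ∨ s = -1)
    (hm : (d : ℤ) ≡ s [ZMOD 5]) : s * (d : ℤ) ∈ o57_a43_L := by
  have h : d ∣ 32 * 27 := by norm_num; exact hd
  obtain ⟨d1, d2, hd1, hd2, rfl⟩ := exists_dvd_and_dvd_of_dvd_mul h
  rcases hs with rfl | rfl <;>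
  rcases o57_a43_div32 d1 hd1 with rfl | rfl | rfl | rfl | rfl | rfl <;>
  rcases o57_a43_div27 d2 hd2 with rfl | rfl | rfl | rfl <;>
  first
    | exact absurd h2 (by decide)
    | exact absurd hm (by decide)
    | decide

/-- absolute value and sign of a signed degree -/
theorem o57_a43_abs (d : ℕ) (s : ℤ) (h2 : 2 ≤ d) (hs : s = 1 ∨ s = -1) :
    |s * (d : ℤ)| = (d : ℤ) ∧ (s * (d : ℤ)).natAbs = d ∧ o57_a43_sg (s * (d : ℤ)) = s := by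
  have hd : (0 : ℤ) < (d : ℤ) := by exact_mod_cast (by omega : 0 < d)
  rcases hs with rfl | rfl
  · refine ⟨by rw [one_mul, abs_of_pos hd], by rw [one_mul, Int.natAbs_natCast], ?_⟩
    unfold o57_a43_sg
    rw [one_mul, if_pos hd]
  · refine ⟨by rw [neg_one_mul, abs_neg, abs_of_pos hd],
      by rw [neg_one_mul, Int.natAbs_neg, Int.natAbs_natCast], ?_⟩
    unfold o57_a43_sg
    rw [neg_one_mul, if_neg (by linarith)]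

/-- the value at the involution is a candidate -/
theorem o57_a43_memB (d : ℕ) (b v : ℤ) (hv : v.natAbs = d) (hb : b ≡ (d : ℤ) [ZMOD 4])
    (hl : |b| ≤ (d : ℤ)) : b ∈ o57_a43_B v := by
  unfold o57_a43_B
  rw [hv, List.mem_map]
  obtain ⟨m, hm⟩ := hb.dvd
  have h1 := (abs_le.mp hl).1
  have h2 := (abs_le.mp hl).2
  have hm0 : 0 ≤ m := by omega
  refine ⟨m.toNat, ?_, ?_⟩
  · rw [List.mem_range]
    omega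
  · show (d : ℤ) - 4 * ((m.toNat : ℕ) : ℤ) = b
    omega

/-- **the arithmetic of order 4320** -/
theorem o57_arith4320 (d2 d3 d4 d5 : ℕ) (s2 s3 s4 s5 b2 b3 b4 b5 : ℤ) (C : ℕ)
    (hd2 : d2 ∣ 864) (hd3 : d3 ∣ 864) (hd4 : d4 ∣ 864) (hd5 : d5 ∣ 864)
    (h2 : 2 ≤ d2) (h3 : 2 ≤ d3) (h4 : 2 ≤ d4) (h5 : 2 ≤ d5)
    (hs2 : s2 = 1 ∨ s2 = -1) (hs3 : s3 = 1 ∨ s3 = -1) (hs4 : s4 = 1 ∨ s4 = -1)
    (hs5 : s5 = 1 ∨ s5 = -1)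
    (hm2 : (d2 : ℤ) ≡ s2 [ZMOD 5]) (hm3 : (d3 : ℤ) ≡ s3 [ZMOD 5]) (hm4 : (d4 : ℤ) ≡ s4 [ZMOD 5])
    (hm5 : (d5 : ℤ) ≡ s5 [ZMOD 5])
    (hdeg : 1 + s2 * d2 + s3 * d3 + s4 * d4 + s5 * d5 = 0)
    (hb2 : b2 ≡ (d2 : ℤ) [ZMOD 4]) (hb3 : b3 ≡ (d3 : ℤ) [ZMOD 4]) (hb4 : b4 ≡ (d4 : ℤ) [ZMOD 4])
    (hb5 : b5 ≡ (d5 : ℤ) [ZMOD 4])
    (hl2 : |b2| ≤ (d2 : ℤ)) (hl3 : |b3| ≤ (d3 : ℤ)) (hl4 : |b4| ≤ (d4 : ℤ))
    (hl5 : |b5| ≤ (d5 : ℤ))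
    (hval : 1 + s2 * b2 + s3 * b3 + s4 * b4 + s5 * b5 = 0)
    (hcol : 1 + b2 ^ 2 + b3 ^ 2 + b4 ^ 2 + b5 ^ 2 ≤ (C : ℤ))
    (hcount : 5 * (C : ℤ) ^ 2 * ((d2 : ℤ) * d3 * d4 * d5) =
      4320 * ((d2 : ℤ) * d3 * d4 * d5 + s2 * b2 ^ 2 * ((d3 : ℤ) * d4 * d5) +
        s3 * b3 ^ 2 * ((d2 : ℤ) * d4 * d5) + s4 * b4 ^ 2 * ((d2 : ℤ) * d3 * d5) +
        s5 * b5 ^ 2 * ((d2 : ℤ) * d3 * d4))) : False := by
  obtain ⟨a2, n2, g2⟩ := o57_a43_abs d2 s2 h2 hs2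
  obtain ⟨a3, n3, g3⟩ := o57_a43_abs d3 s3 h3 hs3
  obtain ⟨a4, n4, g4⟩ := o57_a43_abs d4 s4 h4 hs4
  obtain ⟨a5, n5, g5⟩ := o57_a43_abs d5 s5 h5 hs5
  have hcore := o57_a43_core (s2 * d2) (o57_a43_cand d2 s2 hd2 h2 hs2 hm2)
    (s3 * d3) (o57_a43_cand d3 s3 hd3 h3 hs3 hm3) (s4 * d4) (o57_a43_cand d4 s4 hd4 h4 hs4 hm4)
    (s5 * d5) (o57_a43_cand d5 s5 hd5 h5 hs5 hm5) (by linarith)
    b2 (o57_a43_memB d2 b2 _ n2 hb2 hl2) b3 (o57_a43_memB d3 b3 _ n3 hb3 hl3)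
    b4 (o57_a43_memB d4 b4 _ n4 hb4 hl4) b5 (o57_a43_memB d5 b5 _ n5 hb5 hl5)
    (by rw [g2, g3, g4, g5]; exact hval)
  unfold o57_a43_R o57_a43_P o57_a43_S at hcore
  rw [a2, a3, a4, a5, g2, g3, g4, g5, ← hcount] at hcore
  have hP : (0 : ℤ) < (d2 : ℤ) * d3 * d4 * d5 := by positivity
  have hS0 : (0 : ℤ) ≤ 1 + b2 ^ 2 + b3 ^ 2 + b4 ^ 2 + b5 ^ 2 := by positivity
  rcases hcore with hc | ⟨hc1, hc2⟩
  · have h6 : (1 + b2 ^ 2 + b3 ^ 2 + b4 ^ 2 + b5 ^ 2) ^ 2 ≤ (C : ℤ) ^ 2 :=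
      pow_le_pow_left₀ hS0 hcol 2
    nlinarith
  · by_cases hC : C < 107
    · exact hc2 C (List.mem_range.mpr hC) ⟨hcol, rfl⟩
    · have h7 : (107 : ℤ) ≤ (C : ℤ) := by exact_mod_cast (not_lt.mp hC)
      have h8 : (107 : ℤ) ^ 2 ≤ (C : ℤ) ^ 2 := pow_le_pow_left₀ (by norm_num) h7 2
      nlinarith

end Cfsg.Agent.O57
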