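/-
Orders 5760 and 4320 (helper2): the numerical data of a member of `X` resp. `Y` at `1` and at an
involution `t`, for a perfect group: degree `d ∣ e n_p`, `d ≥ 2`, `d ≡ dl` resp. `ep e (mod p)`,
`χ(t) = b ∈ ℤ` with `b ≡ d (mod 4)` and `|b| ≤ d`.
-/
import Mathlib
import Cfsg.Agent.BR.BlockC
import Cfsg.Agent.BR.RedB
import Cfsg.Agent.O50.Det

set_option autoImplicit false
set_option linter.style.haveILetI false
set_option linter.unusedSectionVars false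

namespace Cfsg.Agent.O57

open Cfsg Cfsg.Agent.Helper6 Cfsg.Agent.BR Cfsg.Agent.O50

universe u

variable {G : Type u} [Group G] {p : ℕ} [hp : Fact p.Prime] {P : Sylow p G}
  {X Y : Set (IrrCharacter G)} {dl : IrrCharacter G → ℤ} {ep : ℤ}
  {O : IrrCharacter G → Finset (↥(P : Subgroup G) →* ℂˣ)}

/-- degree and value at an involution of a nontrivial irreducible character of a perfect group -/
theorem o57_char_data [Finite G] (hperf : commutator G = ⊤) (χ : IrrCharacter G)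
    (hχ1 : χ ≠ trivIrr G) (t : G) (ht : t * t = 1) :
    ∃ (d : ℕ) (b : ℤ), d = charDegree (χ : G → ℂ) ∧ (χ : G → ℂ) 1 = (d : ℂ) ∧
      (χ : G → ℂ) t = (b : ℂ) ∧ 2 ≤ d ∧ b ≡ (d : ℤ) [ZMOD 4] ∧ |b| ≤ (d : ℤ) := by
  obtain ⟨hdpos, hd⟩ := br_redb_degree χ
  obtain ⟨b, hb, hb4, hbl⟩ := o50_det_mod4 hperf (IsIrrCharacter.isCharacter χ.2) t ht
  refine ⟨charDegree (χ : G → ℂ), b, rfl, hd, hb, ?_, hb4, hbl⟩
  by_contra hlt
  have h1 : charDegree (χ : G → ℂ) = 1 := by omega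
  apply hχ1
  apply br_redb_eq_triv hperf
  rw [hd, h1, Nat.cast_one]

/-- the data of a nontrivial member of `X` -/
theorem o57_X_data [Finite G] (hperf : commutator G = ⊤) (h : br_blk_IsData P X Y dl ep O)
    (χ : IrrCharacter G) (hχ : χ ∈ X) (hχ1 : χ ≠ trivIrr G) (t : G) (ht : t * t = 1) :
    ∃ (d : ℕ) (b : ℤ), (χ : G → ℂ) 1 = (d : ℂ) ∧ (χ : G → ℂ) t = (b : ℂ) ∧
      d ∣ (P : Subgroup G).relIndex (Subgroup.normalizer ((P : Subgroup G) : Set G)) *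
        Nat.card (Sylow p G) ∧
      2 ≤ d ∧ (d : ℤ) ≡ dl χ [ZMOD p] ∧ b ≡ (d : ℤ) [ZMOD 4] ∧ |b| ≤ (d : ℤ) := by
  haveI := br_blk_finite_P h
  haveI : Fintype ↥(P : Subgroup G) := Fintype.ofFinite _
  obtain ⟨d, b, hd, h1, h2, h3, h4, h5⟩ := o57_char_data hperf χ hχ1 t ht
  refine ⟨d, b, h1, h2, hd ▸ br_blk_dvd_X h χ hχ, h3, ?_, h4, h5⟩
  rcases h.dl_sign χ with hs | hs
  · obtain ⟨u, hu, -⟩ := br_blk_deg_X_pos h χ hχ hs
    rw [hs, hd, hu, Int.modEq_iff_dvd]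
    exact ⟨-(u : ℤ), by push_cast; ring⟩
  · obtain ⟨u, hu, -⟩ := br_blk_deg_X_neg h χ hχ hs
    rw [hs, hd, Int.modEq_iff_dvd]
    refine ⟨-((u : ℤ) + 1), ?_⟩
    have : ((charDegree (χ : G → ℂ) : ℕ) : ℤ) + 1 = ((u : ℤ) + 1) * (p : ℤ) := by
      exact_mod_cast hu
    linarith

/-- the data of a member of `Y` -/
theorem o57_Y_data [Finite G] (hperf : commutator G = ⊤) (h : br_blk_IsData P X Y dl ep O)
    (ψ : IrrCharacter G) (hψ : ψ ∈ Y) (t : G) (ht : t * t = 1) :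
    ∃ (d : ℕ) (b : ℤ), (ψ : G → ℂ) 1 = (d : ℂ) ∧ (ψ : G → ℂ) t = (b : ℂ) ∧
      d ∣ (P : Subgroup G).relIndex (Subgroup.normalizer ((P : Subgroup G) : Set G)) *
        Nat.card (Sylow p G) ∧
      2 ≤ d ∧ (d : ℤ) ≡ ep * ((P : Subgroup G).relIndex
        (Subgroup.normalizer ((P : Subgroup G) : Set G)) : ℤ) [ZMOD p] ∧
      b ≡ (d : ℤ) [ZMOD 4] ∧ |b| ≤ (d : ℤ) := by
  haveI := br_blk_finite_P h
  haveI : Fintype ↥(P : Subgroup G) := Fintype.ofFinite _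
  have hψ1 : ψ ≠ trivIrr G := by
    intro h0
    exact Set.disjoint_left.mp h.disj h.triv_mem (h0 ▸ hψ)
  obtain ⟨d, b, hd, h1, h2, h3, h4, h5⟩ := o57_char_data hperf ψ hψ1 t ht
  refine ⟨d, b, h1, h2, hd ▸ br_blk_dvd_Y h ψ hψ, h3, ?_, h4, h5⟩
  rcases h.ep_sign with hs | hs
  · obtain ⟨w, hw, -⟩ := br_blk_deg_Y_pos h ψ hψ hs
    rw [hs, hd, hw, Int.modEq_iff_dvd]
    exact ⟨-(w : ℤ), by push_cast; ring⟩
  · obtain ⟨w, hw, -⟩ := br_blk_deg_Y_neg h ψ hψ hs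
    rw [hs, hd, Int.modEq_iff_dvd]
    refine ⟨-(w : ℤ), ?_⟩
    have : ((charDegree (ψ : G → ℂ) : ℕ) : ℤ) + (((P : Subgroup G).relIndex
        (Subgroup.normalizer ((P : Subgroup G) : Set G)) : ℕ) : ℤ) = (w : ℤ) * (p : ℤ) := by
      exact_mod_cast hw
    linarith

end Cfsg.Agent.O57
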