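/-
Orders 5760 and 4320 (helper2): consequences of the block data `br_blk_IsData` (`BR/Block*`) for a
Sylow `p`-subgroup `P` of order `p` with `C_G(P) = P`, for `p`-regular elements:

* `o57_rel`   : `ep ψ(g) = ∑_{χ ∈ X} dl(χ) χ(g)` for `ψ ∈ Y` and `g` `p`-regular;
* `o57_count` : the class multiplication constant `#{(u, v) : u ~ a, v ~ b, u v = x}` for
  `p`-regular `a`, `b` and `1 ≠ x ∈ P` only involves the characters of `X ∪ Y`;
* `o57_dvd_count` : `p` divides that number if `a` is a nontrivial `p`-regular element.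
-/
import Mathlib
import Cfsg.Agent.BR.BlockB
import Cfsg.Agent.BR.BlockC
import Cfsg.Agent.Helper6.ColumnOrth
import Cfsg.Agent.BR.ClassMultB
import Cfsg.Agent.Helper6.StructConst
import Cfsg.Agent.Helper6.CharBasic

set_option autoImplicit false
set_option linter.style.haveILetI false
set_option linter.unusedSectionVars false

namespace Cfsg.Agent.O57

open Cfsg Cfsg.Agent.Helper6 Cfsg.Agent.BR
open scoped ComplexConjugate

universe u

variable {G : Type u} [Group G] {p : ℕ} [hp : Fact p.Prime] {P : Sylow p G}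
  {X Y : Set (IrrCharacter G)} {dl : IrrCharacter G → ℤ} {ep : ℤ}
  {O : IrrCharacter G → Finset (↥(P : Subgroup G) →* ℂˣ)}

/-- conjugate elements have the same order -/
theorem o57_orderOf_conj {a b : G} (h : IsConj a b) : orderOf a = orderOf b := by
  obtain ⟨c, hc⟩ := isConj_iff.mp h
  rw [← hc]
  exact (orderOf_injective (MulAut.conj c).toMonoidHom (MulAut.conj c).injective a).symm

/-- a nontrivial element of `P` has order `p` -/
theorem o57_orderOf_of_mem (h : br_blk_IsData P X Y dl ep O) (x : G) (hx : x ∈ (P : Subgroup G))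
    (hx1 : x ≠ 1) : orderOf x = p := by
  haveI := br_blk_finite_P h
  have h1 : orderOf (⟨x, hx⟩ : ↥(P : Subgroup G)) ∣ p := by
    have h0 := orderOf_dvd_natCard (⟨x, hx⟩ : ↥(P : Subgroup G))
    rwa [h.card_P] at h0
  have h2 : orderOf (⟨x, hx⟩ : ↥(P : Subgroup G)) = orderOf x := by
    rw [← Subgroup.orderOf_coe]
  rw [h2] at h1
  rcases (Nat.dvd_prime hp.out).mp h1 with h3 | h3
  · exact absurd (orderOf_eq_one_iff.mp h3) hx1
  · exact h3

/-- a `p`-regular element is not conjugate to a nontrivial element of `P` -/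
theorem o57_not_conj (h : br_blk_IsData P X Y dl ep O) (x : G) (hx : x ∈ (P : Subgroup G))
    (hx1 : x ≠ 1) (g : G) (hg : ¬ p ∣ orderOf g) : ¬ IsConj g x := by
  intro hc
  apply hg
  rw [o57_orderOf_conj hc, o57_orderOf_of_mem h x hx hx1]

/-- **the relation on `p`-regular elements** -/
theorem o57_rel [Fintype G] (h : br_blk_IsData P X Y dl ep O) (g : G) (hg : ¬ p ∣ orderOf g)
    (ψ : IrrCharacter G) (hψ : ψ ∈ Y) :
    (ep : ℂ) * (ψ : G → ℂ) g = ∑ᶠ χ ∈ X, (dl χ : ℂ) * (χ : G → ℂ) g := by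
  classical
  haveI : Finite (IrrCharacter G) := irr_finite
  haveI : Fintype (IrrCharacter G) := Fintype.ofFinite _
  have hm : ∀ x : G, x ∈ (P : Subgroup G) → x ≠ 1 →
      ∑ χ : IrrCharacter G, (χ : G → ℂ) g * (χ : G → ℂ) x = 0 := by
    intro x hx hx1
    have h1 := column_orthogonality_aux g x⁻¹
    rw [if_neg (o57_not_conj h x⁻¹ (inv_mem hx) (fun h0 => hx1 (inv_eq_one.mp h0)) g hg)] at h1
    rw [← h1]
    apply Finset.sum_congr rfl
    intro χ _
    rw [IsCharacter.inv_eq_conj (IsIrrCharacter.isCharacter χ.2), Complex.conj_conj]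
  obtain ⟨m', h1, h2⟩ := br_blk_indep h (fun χ => (χ : G → ℂ) g) 0 hm
  rw [← h1 ψ hψ] at h2
  have h3 : ∑ᶠ χ ∈ X, (dl χ : ℂ) * (χ : G → ℂ) g = ∑ᶠ χ ∈ X, (χ : G → ℂ) g * (dl χ : ℂ) :=
    finsum_mem_congr rfl (fun χ _ => mul_comm _ _)
  rw [h3]
  linear_combination -h2

/-- `1` is `p`-regular -/
theorem o57_reg_one : ¬ p ∣ orderOf (1 : G) := by
  rw [orderOf_one]
  exact hp.out.not_dvd_one

open Classical in
/-- the number of pairs as a double sum -/
theorem o57_card_classPairs [Fintype G] (a b x : G) :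
    ((classPairs a b x).card : ℂ) =
      ∑ u ∈ classFinset a, ∑ v ∈ classFinset b, (if u * v = x then (1 : ℂ) else 0) := by
  unfold classPairs
  rw [Finset.card_filter, Finset.sum_product]
  push_cast
  rfl

/-- the size of a class -/
theorem o57_card_class [Fintype G] (a : G) :
    ((classFinset a).card : ℂ) * (Nat.card (Subgroup.centralizer ({a} : Set G)) : ℂ) =
      (Nat.card G : ℂ) := by
  rw [card_classFinset, ← Nat.cast_mul, Subgroup.index_mul_card]

/-- **the class multiplication constant** of two `p`-regular classes at `1 ≠ x ∈ P` -/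
theorem o57_count [Fintype G] (h : br_blk_IsData P X Y dl ep O) (x : G)
    (hx : x ∈ (P : Subgroup G)) (hx1 : x ≠ 1) (a b : G) (ha : ¬ p ∣ orderOf a)
    (hb : ¬ p ∣ orderOf b) (ψ : IrrCharacter G) (hψ : ψ ∈ Y) :
    ((classPairs a b x).card : ℂ) * (Nat.card (Subgroup.centralizer ({a} : Set G)) : ℂ) *
        (Nat.card (Subgroup.centralizer ({b} : Set G)) : ℂ) =
      (Nat.card G : ℂ) *
        (∑ᶠ χ ∈ X, (dl χ : ℂ) * (χ : G → ℂ) a * (χ : G → ℂ) b / (χ : G → ℂ) 1 -
          (ep : ℂ) * (ψ : G → ℂ) a * (ψ : G → ℂ) b / (ψ : G → ℂ) 1) := by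
  classical
  haveI : Finite (IrrCharacter G) := irr_finite
  haveI : Fintype (IrrCharacter G) := Fintype.ofFinite _
  have hG0 : (Nat.card G : ℂ) ≠ 0 := by
    have : 0 < Nat.card G := Nat.card_pos
    exact_mod_cast this.ne'
  have hxP : (⟨x, hx⟩ : ↥(P : Subgroup G)) ≠ 1 := fun h0 => hx1 (congrArg Subtype.val h0)
  -- the sum over all characters
  have hsplit := br_blk_sum_split h
    (fun χ => (χ : G → ℂ) a * (χ : G → ℂ) b * conj ((χ : G → ℂ) x) / (χ : G → ℂ) 1)
    (fun ζ hζX hζY => by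
      show (ζ : G → ℂ) a * (ζ : G → ℂ) b * conj ((ζ : G → ℂ) x) / (ζ : G → ℂ) 1 = 0
      rw [h.val_Z ζ hζX hζY x hx hx1, map_zero, mul_zero, zero_div])
  have hXpart : ∑ χ ∈ (Set.toFinite X).toFinset,
      (χ : G → ℂ) a * (χ : G → ℂ) b * conj ((χ : G → ℂ) x) / (χ : G → ℂ) 1 =
      ∑ᶠ χ ∈ X, (dl χ : ℂ) * (χ : G → ℂ) a * (χ : G → ℂ) b / (χ : G → ℂ) 1 := by
    rw [finsum_mem_eq_finite_toFinset_sum _ (Set.toFinite X)]
    apply Finset.sum_congr rfl
    intro χ hχ
    rw [h.val_X χ ((Set.Finite.mem_toFinset _).mp hχ) x hx hx1, map_intCast]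
    ring
  have hYsum := br_blk_sum_over_Y h ⟨x, hx⟩ hxP
  rw [finsum_mem_eq_finite_toFinset_sum _ (Set.toFinite Y)] at hYsum
  have hYpart : ∑ ψ' ∈ (Set.toFinite Y).toFinset,
      (ψ' : G → ℂ) a * (ψ' : G → ℂ) b * conj ((ψ' : G → ℂ) x) / (ψ' : G → ℂ) 1 =
      -((ep : ℂ) * (ψ : G → ℂ) a * (ψ : G → ℂ) b / (ψ : G → ℂ) 1) := by
    have h1 : ∀ ψ' ∈ (Set.toFinite Y).toFinset,
        (ψ' : G → ℂ) a * (ψ' : G → ℂ) b * conj ((ψ' : G → ℂ) x) / (ψ' : G → ℂ) 1 =
        (ψ : G → ℂ) a * (ψ : G → ℂ) b / (ψ : G → ℂ) 1 * conj ((ψ' : G → ℂ) x) := by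
      intro ψ' hψ'
      have hY' : ψ' ∈ Y := (Set.Finite.mem_toFinset _).mp hψ'
      rw [h.reg_Y ψ' hY' ψ hψ a ha, h.reg_Y ψ' hY' ψ hψ b hb, h.reg_Y ψ' hY' ψ hψ 1 o57_reg_one]
      ring
    rw [Finset.sum_congr rfl h1, ← Finset.mul_sum, ← map_sum]
    have h2 : ∑ ψ' ∈ (Set.toFinite Y).toFinset, (ψ' : G → ℂ) x = -(ep : ℂ) := hYsum
    rw [h2, map_neg, map_intCast]
    ring
  have hcm := br_cm_class_mult_count a b x
  rw [← o57_card_classPairs, hsplit, hXpart, hYpart] at hcm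
  have hca := o57_card_class a
  have hcb := o57_card_class b
  rw [hcm]
  have hCa : (Nat.card (Subgroup.centralizer ({a} : Set G)) : ℂ) ≠ 0 := by
    have : 0 < Nat.card (Subgroup.centralizer ({a} : Set G)) := Nat.card_pos
    exact_mod_cast this.ne'
  have hCb : (Nat.card (Subgroup.centralizer ({b} : Set G)) : ℂ) ≠ 0 := by
    have : 0 < Nat.card (Subgroup.centralizer ({b} : Set G)) := Nat.card_pos
    exact_mod_cast this.ne'
  have ea : ((classFinset a).card : ℂ) =
      (Nat.card G : ℂ) / (Nat.card (Subgroup.centralizer ({a} : Set G)) : ℂ) := by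
    rw [eq_div_iff hCa]; exact hca
  have eb : ((classFinset b).card : ℂ) =
      (Nat.card G : ℂ) / (Nat.card (Subgroup.centralizer ({b} : Set G)) : ℂ) := by
    rw [eq_div_iff hCb]; exact hcb
  rw [ea, eb]
  field_simp
  ring

/-- **`p` divides the class multiplication constant** when the first class is a nontrivial
`p`-regular class -/
theorem o57_dvd_count [Fintype G] (h : br_blk_IsData P X Y dl ep O) (x : G)
    (hx : x ∈ (P : Subgroup G)) (a b : G) (ha : ¬ p ∣ orderOf a) (ha1 : a ≠ 1) :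
    p ∣ (classPairs a b x).card := by
  by_contra hnd
  have hQt : (P : Subgroup G) ≤ Subgroup.centralizer ({x} : Set G) := by
    intro q hq
    rw [Subgroup.mem_centralizer_iff]
    intro z hz
    rw [Set.mem_singleton_iff] at hz
    rw [hz]
    exact congrArg Subtype.val (br_blk_comm h ⟨x, hx⟩ ⟨q, hq⟩)
  obtain ⟨u, v, hu, -, -, hfix⟩ := exists_fixed_classPair p a b x hnd (P : Subgroup G)
    P.isPGroup' hQt
  have huC : u ∈ Subgroup.centralizer ((P : Subgroup G) : Set G) := by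
    rw [Subgroup.mem_centralizer_iff]
    intro q hq
    have h1 := (hfix q hq).1
    calc q * u = q * u * q⁻¹ * q := by group
      _ = u * q := by rw [h1]
  rw [h.cent_P] at huC
  have hu1 : u ≠ 1 := by
    intro h0
    rw [h0] at hu
    exact ha1 (isConj_one_right.mp hu.symm)
  apply ha
  rw [o57_orderOf_conj hu, o57_orderOf_of_mem h u huC hu1]

end Cfsg.Agent.O57
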