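/-
Orders 5760 and 4320 (helper2): the case `e = |N_G(P) : P| = 2` of the block data.  Then
`X = {1, χ}` and the class multiplication constant of two `p`-regular classes at `1 ≠ x ∈ P` is
`|G| (χ(1) - χ(a)) (χ(1) - χ(b)) / (|C(a)| |C(b)| χ(1) (χ(1) + δ))`, `δ = χ(x) = ± 1`.
-/
import Mathlib
import Cfsg.Agent.O57.Rel
import Cfsg.Agent.BR.RedB

set_option autoImplicit false
set_option linter.style.haveILetI false
set_option linter.unusedSectionVars false

namespace Cfsg.Agent.O57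

open Cfsg Cfsg.Agent.Helper6 Cfsg.Agent.BR
open scoped ComplexConjugate

universe u

variable {G : Type u} [Group G] {p : ℕ} [hp : Fact p.Prime] {P : Sylow p G}
  {X Y : Set (IrrCharacter G)} {dl : IrrCharacter G → ℤ} {ep : ℤ}
  {O : IrrCharacter G → Finset (↥(P : Subgroup G) →* ℂˣ)}

/-- `dl 1 = 1` -/
theorem o57_dl_triv (h : br_blk_IsData P X Y dl ep O) : dl (trivIrr G) = 1 := by
  obtain ⟨x, hx⟩ := br_blk_exists_ne_one h
  have h1 := h.val_X (trivIrr G) h.triv_mem (x : G) x.2 (br_blk_ne_one_coe x hx)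
  have h2 : ((trivIrr G : IrrCharacter G) : G → ℂ) (x : G) = 1 := rfl
  rw [h2] at h1
  exact_mod_cast h1.symm

/-- `Y` is nonempty -/
theorem o57_Y_nonempty (h : br_blk_IsData P X Y dl ep O) : ∃ ψ : IrrCharacter G, ψ ∈ Y := by
  have h1 := h.card_Y
  have h2 : Nat.card Y ≠ 0 := by
    intro h0
    rw [h0, zero_mul] at h1
    have := hp.out.two_le
    omega
  obtain ⟨⟨ψ, hψ⟩⟩ := (Nat.card_ne_zero.mp h2).1
  exact ⟨ψ, hψ⟩

/-- the degree of an irreducible character is not `0` -/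
theorem o57_deg_ne_zero (χ : IrrCharacter G) : (χ : G → ℂ) 1 ≠ 0 := by
  obtain ⟨hpos, hd⟩ := br_redb_degree χ
  rw [hd]
  exact_mod_cast hpos.ne'

/-- **the case `e = 2`** -/
theorem o57_etwo [Fintype G] (h : br_blk_IsData P X Y dl ep O)
    (he : (P : Subgroup G).relIndex (Subgroup.normalizer ((P : Subgroup G) : Set G)) = 2) :
    ∃ (χ : IrrCharacter G) (δ : ℤ), χ ≠ trivIrr G ∧ (δ = 1 ∨ δ = -1) ∧
      (∀ x : G, x ∈ (P : Subgroup G) → x ≠ 1 → (χ : G → ℂ) x = (δ : ℂ)) ∧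
      ∀ x : G, x ∈ (P : Subgroup G) → x ≠ 1 → ∀ a b : G, ¬ p ∣ orderOf a → ¬ p ∣ orderOf b →
        ((classPairs a b x).card : ℂ) * (Nat.card (Subgroup.centralizer ({a} : Set G)) : ℂ) *
          (Nat.card (Subgroup.centralizer ({b} : Set G)) : ℂ) * (χ : G → ℂ) 1 *
          ((χ : G → ℂ) 1 + (δ : ℂ)) =
        (Nat.card G : ℂ) * ((χ : G → ℂ) 1 - (χ : G → ℂ) a) * ((χ : G → ℂ) 1 - (χ : G → ℂ) b) := by
  classical
  -- `X = {1, χ}`
  have hX2 : X.ncard = 2 := by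
    rw [← Nat.card_coe_set_eq, h.card_X, he]
  obtain ⟨u, v, huv, hXuv⟩ := Set.ncard_eq_two.mp hX2
  obtain ⟨χ, hχ1, hXeq⟩ : ∃ χ : IrrCharacter G, χ ≠ trivIrr G ∧ X = {trivIrr G, χ} := by
    have ht := h.triv_mem
    rw [hXuv] at ht
    rcases ht with ht | ht
    · exact ⟨v, fun h0 => huv (ht.symm.trans h0.symm), by rw [hXuv, ht]⟩
    · rw [Set.mem_singleton_iff] at ht
      exact ⟨u, fun h0 => huv (h0.trans ht), by rw [hXuv, ht, Set.pair_comm]⟩
  have hχX : χ ∈ X := by rw [hXeq]; exact Set.mem_insert_of_mem _ rfl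
  obtain ⟨ψ, hψ⟩ := o57_Y_nonempty h
  have hdl1 := o57_dl_triv h
  refine ⟨χ, dl χ, hχ1, h.dl_sign χ, fun x hx hx1 => h.val_X χ hχX x hx hx1, ?_⟩
  intro x hx hx1 a b ha hb
  have htriv : ∀ g : G, ((trivIrr G : IrrCharacter G) : G → ℂ) g = 1 := fun _ => rfl
  -- the relations
  have hrel : ∀ g : G, ¬ p ∣ orderOf g →
      (ep : ℂ) * (ψ : G → ℂ) g = 1 + (dl χ : ℂ) * (χ : G → ℂ) g := by
    intro g hg
    rw [o57_rel h g hg ψ hψ, hXeq, finsum_mem_pair hχ1.symm, hdl1, htriv]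
    push_cast
    ring
  have r1 := hrel 1 o57_reg_one
  have ra := hrel a ha
  have rb := hrel b hb
  have hcnt := o57_count h x hx hx1 a b ha hb ψ hψ
  rw [hXeq, finsum_mem_pair hχ1.symm, hdl1, htriv, htriv, htriv] at hcnt
  have hF := o57_deg_ne_zero χ
  have hYc := o57_deg_ne_zero ψ
  rw [hcnt]
  rcases h.ep_sign with hep | hep <;> rcases h.dl_sign χ with hd | hd <;>
    rw [hep] at r1 ra rb ⊢ <;> rw [hd] at r1 ra rb ⊢ <;> push_cast at r1 ra rb ⊢
  · have e1 : (ψ : G → ℂ) 1 = 1 + (χ : G → ℂ) 1 := by linear_combination r1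
    have e2 : (ψ : G → ℂ) a = 1 + (χ : G → ℂ) a := by linear_combination ra
    have e3 : (ψ : G → ℂ) b = 1 + (χ : G → ℂ) b := by linear_combination rb
    have hQ : (1 : ℂ) + (χ : G → ℂ) 1 ≠ 0 := by rw [← e1]; exact hYc
    rw [e1, e2, e3]
    field_simp
    ring
  · have e1 : (ψ : G → ℂ) 1 = 1 - (χ : G → ℂ) 1 := by linear_combination r1
    have e2 : (ψ : G → ℂ) a = 1 - (χ : G → ℂ) a := by linear_combination ra
    have e3 : (ψ : G → ℂ) b = 1 - (χ : G → ℂ) b := by linear_combination rb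
    have hQ : (1 : ℂ) - (χ : G → ℂ) 1 ≠ 0 := by rw [← e1]; exact hYc
    rw [e1, e2, e3]
    field_simp
    ring
  · have e1 : (ψ : G → ℂ) 1 = -(1 + (χ : G → ℂ) 1) := by linear_combination -r1
    have e2 : (ψ : G → ℂ) a = -(1 + (χ : G → ℂ) a) := by linear_combination -ra
    have e3 : (ψ : G → ℂ) b = -(1 + (χ : G → ℂ) b) := by linear_combination -rb
    have hQ : (1 : ℂ) + (χ : G → ℂ) 1 ≠ 0 := by
      intro h0
      apply hYc
      rw [e1, h0, neg_zero]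
    rw [e1, e2, e3]
    field_simp
    ring
  · have e1 : (ψ : G → ℂ) 1 = -(1 - (χ : G → ℂ) 1) := by linear_combination -r1
    have e2 : (ψ : G → ℂ) a = -(1 - (χ : G → ℂ) a) := by linear_combination -ra
    have e3 : (ψ : G → ℂ) b = -(1 - (χ : G → ℂ) b) := by linear_combination -rb
    have hQ : (1 : ℂ) - (χ : G → ℂ) 1 ≠ 0 := by
      intro h0
      apply hYc
      rw [e1, h0, neg_zero]
    rw [e1, e2, e3]
    field_simp
    ring

end Cfsg.Agent.O57
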