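/-
Orders 5760 and 4320 (helper2): the case `e = |N_G(P) : P| = 4`, `p = 5` of the block data:
`X = {1, χ₂, χ₃, χ₄}`, `Y = {ψ}`; sums over a four-element set; the column bound.
-/
import Mathlib
import Cfsg.Agent.O57.Rel
import Cfsg.Agent.O57.ETwo

set_option autoImplicit false
set_option linter.style.haveILetI false
set_option linter.unusedSectionVars false

namespace Cfsg.Agent.O57

open Cfsg Cfsg.Agent.Helper6 Cfsg.Agent.BR
open scoped ComplexConjugate

universe u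

/-- a `finsum` over a four-element set -/
theorem o57_finsum_four {α : Type u} {M : Type*} [AddCommMonoid M] (a b c d : α) (hab : a ≠ b)
    (hac : a ≠ c) (had : a ≠ d) (hbc : b ≠ c) (hbd : b ≠ d) (hcd : c ≠ d) (f : α → M) :
    ∑ᶠ i ∈ ({a, b, c, d} : Set α), f i = f a + f b + f c + f d := by
  rw [finsum_mem_insert f (by simp [hab, hac, had]) (Set.toFinite _),
    finsum_mem_insert f (by simp [hbc, hbd]) (Set.toFinite _), finsum_mem_pair hcd]
  abel

variable {G : Type u} [Group G] {p : ℕ} [hp : Fact p.Prime] {P : Sylow p G}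
  {X Y : Set (IrrCharacter G)} {dl : IrrCharacter G → ℤ} {ep : ℤ}
  {O : IrrCharacter G → Finset (↥(P : Subgroup G) →* ℂˣ)}

/-- **the shape of `X` and `Y`** for `e = 4`, `p = 5` -/
theorem o57_efour (h : br_blk_IsData P X Y dl ep O) (hp5 : p = 5)
    (he : (P : Subgroup G).relIndex (Subgroup.normalizer ((P : Subgroup G) : Set G)) = 4) :
    ∃ χ₂ χ₃ χ₄ ψ : IrrCharacter G, χ₂ ≠ trivIrr G ∧ χ₃ ≠ trivIrr G ∧ χ₄ ≠ trivIrr G ∧
      ψ ≠ trivIrr G ∧ χ₂ ≠ χ₃ ∧ χ₂ ≠ χ₄ ∧ χ₃ ≠ χ₄ ∧ ψ ≠ χ₂ ∧ ψ ≠ χ₃ ∧ ψ ≠ χ₄ ∧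
      X = {trivIrr G, χ₂, χ₃, χ₄} ∧ Y = {ψ} := by
  classical
  have hX4 : X.ncard = 4 := by
    rw [← Nat.card_coe_set_eq, h.card_X, he]
  have hY1 : Y.ncard = 1 := by
    have h1 := h.card_Y
    rw [he, hp5] at h1
    rw [← Nat.card_coe_set_eq]
    omega
  obtain ⟨ψ, hYeq⟩ := Set.ncard_eq_one.mp hY1
  have hXfin : X.Finite := Set.finite_of_ncard_ne_zero (by rw [hX4]; norm_num)
  have h3 : (X \ {trivIrr G}).ncard = 3 := by
    rw [Set.ncard_sdiff_singleton_of_mem h.triv_mem, hX4]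
  obtain ⟨χ₂, χ₃, χ₄, h23, h24, h34, hd⟩ := Set.ncard_eq_three.mp h3
  have hmem : ∀ χ : IrrCharacter G, χ ∈ X \ {trivIrr G} ↔ χ = χ₂ ∨ χ = χ₃ ∨ χ = χ₄ := by
    intro χ
    rw [hd]
    simp
  have hXeq : X = {trivIrr G, χ₂, χ₃, χ₄} := by
    ext χ
    by_cases hχ : χ = trivIrr G
    · rw [hχ]
      exact ⟨fun _ => Set.mem_insert _ _, fun _ => h.triv_mem⟩
    · constructor
      · intro hX
        have := (hmem χ).mp ⟨hX, hχ⟩
        simp only [Set.mem_insert_iff, Set.mem_singleton_iff]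
        exact Or.inr this
      · intro hX
        simp only [Set.mem_insert_iff, Set.mem_singleton_iff] at hX
        rcases hX with hX | hX
        · exact absurd hX hχ
        · exact ((hmem χ).mpr hX).1
  have hne : ∀ χ : IrrCharacter G, χ = χ₂ ∨ χ = χ₃ ∨ χ = χ₄ → χ ≠ trivIrr G ∧ χ ∈ X := by
    intro χ hχ
    have := (hmem χ).mpr hχ
    exact ⟨this.2, this.1⟩
  have hψY : ψ ∈ Y := by rw [hYeq]; rfl
  have hψX : ψ ∉ X := fun hX => Set.disjoint_left.mp h.disj hX hψY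
  refine ⟨χ₂, χ₃, χ₄, ψ, (hne χ₂ (Or.inl rfl)).1, (hne χ₃ (Or.inr (Or.inl rfl))).1,
    (hne χ₄ (Or.inr (Or.inr rfl))).1, ?_, h23, h24, h34, ?_, ?_, ?_, hXeq, hYeq⟩
  · intro h0
    exact hψX (h0 ▸ h.triv_mem)
  · intro h0
    exact hψX (h0 ▸ (hne χ₂ (Or.inl rfl)).2)
  · intro h0
    exact hψX (h0 ▸ (hne χ₃ (Or.inr (Or.inl rfl))).2)
  · intro h0
    exact hψX (h0 ▸ (hne χ₄ (Or.inr (Or.inr rfl))).2)

/-- **the column bound**: a partial sum of `|χ(t)|²` is at most `|C_G(t)|` -/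
theorem o57_col_bound [Fintype G] (t : G) (S : Finset (IrrCharacter G)) :
    ∑ χ ∈ S, Complex.normSq ((χ : G → ℂ) t) ≤
      (Nat.card (Subgroup.centralizer ({t} : Set G)) : ℝ) := by
  classical
  haveI : Finite (IrrCharacter G) := irr_finite
  haveI : Fintype (IrrCharacter G) := Fintype.ofFinite _
  have h1 := column_orthogonality_aux t t
  rw [if_pos (IsConj.refl t)] at h1
  have h2 : ∑ χ : IrrCharacter G, Complex.normSq ((χ : G → ℂ) t) =
      (Nat.card (Subgroup.centralizer ({t} : Set G)) : ℝ) := by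
    have h3 := congrArg Complex.re h1
    rw [Complex.re_sum, Complex.natCast_re] at h3
    rw [← h3]
    apply Finset.sum_congr rfl
    intro χ _
    rw [Complex.mul_conj, Complex.ofReal_re]
  rw [← h2]
  exact Finset.sum_le_sum_of_subset_of_nonneg (Finset.subset_univ S)
    (fun χ _ _ => Complex.normSq_nonneg _)

end Cfsg.Agent.O57
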