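/-
Orders 5760 and 4320 (helper2): the front.  In a simple group of order `p · 3^a · 2^b`
(`p ≥ 5` prime) a Sylow `p`-subgroup `P` has order `p` and is self-centralizing (S1001), so the
block data `br_blk_IsData` exists; `|G| = p · e · n_p` with `e = |N_G(P) : P|`.
-/
import Mathlib
import Cfsg.Agent.S1001
import Cfsg.Agent.BR.BlockEx
import Cfsg.Agent.BR.BlockC
import Cfsg.Agent.BR.RedB2
import Cfsg.Agent.Helper2.SylowExact2

set_option autoImplicit false
set_option linter.style.haveILetI false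
set_option linter.unusedSectionVars false

namespace Cfsg.Agent.O57

open Cfsg Cfsg.Agent.Helper6 Cfsg.Agent.BR Cfsg.Agent.Helper2

universe u

variable {G : Type u} [Group G]

/-- `p ∤ 3^a 2^b` for a prime `p ≠ 2, 3` -/
theorem o57_not_dvd (p a b : ℕ) (hp : p.Prime) (hp2 : p ≠ 2) (hp3 : p ≠ 3) :
    ¬ p ∣ 3 ^ a * 2 ^ b := by
  intro h
  rcases (Nat.Prime.dvd_mul hp).mp h with h1 | h1
  · exact hp3 ((Nat.prime_dvd_prime_iff_eq hp Nat.prime_three).mp (hp.dvd_of_dvd_pow h1))
  · exact hp2 ((Nat.prime_dvd_prime_iff_eq hp Nat.prime_two).mp (hp.dvd_of_dvd_pow h1))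

/-- **the front**: the block data of a simple group of order `p · 3^a · 2^b` -/
theorem o57_front [Finite G] [IsSimpleGroup G] (p a b : ℕ) [hp : Fact p.Prime] (hp2 : p ≠ 2)
    (hp3 : p ≠ 3) (hG : Nat.card G = p * 3 ^ a * 2 ^ b) (P : Sylow p G) :
    Nat.card (P : Subgroup G) = p ∧
    ∃ (X Y : Set (IrrCharacter G)) (dl : IrrCharacter G → ℤ) (ep : ℤ)
      (O : IrrCharacter G → Finset (↥(P : Subgroup G) →* ℂˣ)), br_blk_IsData P X Y dl ep O := by
  have hP : Nat.card (P : Subgroup G) = p := by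
    have := SylowExact.card_sylow_of_exact_pow (s := p) (k := 1) (m := 3 ^ a * 2 ^ b)
      (by rw [hG]; ring) (o57_not_dvd p a b hp.out hp2 hp3) P
    simpa using this
  refine ⟨hP, ?_⟩
  obtain ⟨x, hxP, -, hxo, -, hcent⟩ := br_redb_generator p (P : Subgroup G) hP
  have h1 := Cfsg.Agent.S1001.result p a b hp.out hG x hxo
  have hC : Subgroup.centralizer ((P : Subgroup G) : Set G) ≤ (P : Subgroup G) := by
    rw [← hcent, h1, Subgroup.zpowers_le]
    exact hxP
  exact br_blk_exists p P hP hC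

variable {p : ℕ} [hp : Fact p.Prime] {P : Sylow p G}
  {X Y : Set (IrrCharacter G)} {dl : IrrCharacter G → ℤ} {ep : ℤ}
  {O : IrrCharacter G → Finset (↥(P : Subgroup G) →* ℂˣ)}

/-- `|G| = p · e · n_p` -/
theorem o57_card_eq [Finite G] (h : br_blk_IsData P X Y dl ep O) :
    Nat.card G = p * ((P : Subgroup G).relIndex (Subgroup.normalizer ((P : Subgroup G) : Set G)) *
      Nat.card (Sylow p G)) := by
  rw [← br_blk_index_P h]
  have h1 := (P : Subgroup G).card_mul_index
  rw [h.card_P] at h1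
  exact h1.symm

end Cfsg.Agent.O57
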