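/-
Orders 5760 and 4320 (helper2): when `e = |N_G(P) : P|` is even there is an involution `t` of
`N_G(P)` inverting `P`, and the number of pairs `(u, v)` of conjugates of `t` with `u v = x`
(`x` a generator of `P`) is exactly `p`.
-/
import Mathlib
import Cfsg.Agent.O57.Rel
import Cfsg.Agent.BR.Invol
import Cfsg.Agent.BR.RedB2

set_option autoImplicit false
set_option linter.style.haveILetI false
set_option linter.unusedSectionVars false

namespace Cfsg.Agent.O57

open Cfsg Cfsg.Agent.Helper6 Cfsg.Agent.BR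

universe u

variable {G : Type u} [Group G] {p : ℕ} [hp : Fact p.Prime] {P : Sylow p G}
  {X Y : Set (IrrCharacter G)} {dl : IrrCharacter G → ℤ} {ep : ℤ}
  {O : IrrCharacter G → Finset (↥(P : Subgroup G) →* ℂˣ)}

/-- `e` even forces `p` odd -/
theorem o57_p_odd (h : br_blk_IsData P X Y dl ep O)
    (he : 2 ∣ (P : Subgroup G).relIndex (Subgroup.normalizer ((P : Subgroup G) : Set G))) :
    p % 2 = 1 := by
  have h1 := br_blk_f_dvd h
  have h2 : 2 ∣ p - 1 := he.trans h1
  have h3 := hp.out.two_le
  omega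

/-- **an involution inverting `P`** -/
theorem o57_invert [Finite G] (h : br_blk_IsData P X Y dl ep O)
    (he : 2 ∣ (P : Subgroup G).relIndex (Subgroup.normalizer ((P : Subgroup G) : Set G))) :
    ∃ t : G, orderOf t = 2 ∧ ∀ x : G, x ∈ (P : Subgroup G) → t * x * t⁻¹ = x⁻¹ := by
  haveI : Fact (Nat.Prime 2) := ⟨Nat.prime_two⟩
  have hpodd := o57_p_odd h he
  -- `|N_G(P)|` is even
  have hN : 2 ∣ Nat.card (Subgroup.normalizer ((P : Subgroup G) : Set G)) := by
    have h2 := Subgroup.relIndex_mul_relIndex ⊥ (P : Subgroup G)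
      (Subgroup.normalizer ((P : Subgroup G) : Set G)) bot_le Subgroup.le_normalizer
    rw [Subgroup.relIndex_bot_left, Subgroup.relIndex_bot_left] at h2
    rw [← h2]
    exact Dvd.dvd.mul_left he _
  obtain ⟨t', ht'⟩ := exists_prime_orderOf_dvd_card'
    (G := Subgroup.normalizer ((P : Subgroup G) : Set G)) 2 hN
  have ht : orderOf (t' : G) = 2 := by rw [Subgroup.orderOf_coe]; exact ht'
  have htt : (t' : G) * (t' : G) = 1 := by
    have := pow_orderOf_eq_one (t' : G)
    rwa [ht, pow_two] at this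
  have htinv : (t' : G)⁻¹ = (t' : G) := inv_eq_of_mul_eq_one_left htt
  have hnorm : ∀ x : G, x ∈ (P : Subgroup G) → (t' : G) * x * (t' : G)⁻¹ ∈ (P : Subgroup G) := by
    intro x hx
    exact (Subgroup.mem_normalizer_iff.mp t'.2 x).mp hx
  refine ⟨(t' : G), ht, ?_⟩
  -- `P ⊓ C(t)` is trivial
  have hQ : ∀ y : G, y ∈ (P : Subgroup G) → (t' : G) * y * (t' : G)⁻¹ = y → y = 1 := by
    intro y hy hty
    by_contra hy1
    -- `y` generates `P`, so `t` centralizes `P`
    have hyo := o57_orderOf_of_mem h y hy hy1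
    have hzp : Subgroup.zpowers y = (P : Subgroup G) := by
      apply Subgroup.eq_of_le_of_card_ge
      · rw [Subgroup.zpowers_le]; exact hy
      · rw [Nat.card_zpowers, hyo, h.card_P]
    have htC : (t' : G) ∈ Subgroup.centralizer ((P : Subgroup G) : Set G) := by
      rw [Subgroup.mem_centralizer_iff]
      intro q hq
      have hq' : q ∈ Subgroup.zpowers y := by rw [hzp]; exact hq
      obtain ⟨k, rfl⟩ := Subgroup.mem_zpowers_iff.mp hq'
      have hc : Commute (t' : G) y := by
        have : (t' : G) * y = y * (t' : G) := by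
          calc (t' : G) * y = (t' : G) * y * (t' : G)⁻¹ * (t' : G) := by group
            _ = y * (t' : G) := by rw [hty]
        exact this
      exact ((hc.zpow_right k).eq).symm
    rw [h.cent_P] at htC
    have h2 : orderOf (t' : G) = p := o57_orderOf_of_mem h _ htC (by
      intro h0
      rw [h0, orderOf_one] at ht
      omega)
    omega
  intro x hx
  have hφ : x * ((t' : G) * x * (t' : G)⁻¹) = 1 := by
    apply hQ _ (mul_mem hx (hnorm x hx))
    have hcomm : x * ((t' : G) * x * (t' : G)⁻¹) = (t' : G) * x * (t' : G)⁻¹ * x :=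
      congrArg Subtype.val (br_blk_comm h ⟨x, hx⟩ ⟨_, hnorm x hx⟩)
    calc (t' : G) * (x * ((t' : G) * x * (t' : G)⁻¹)) * (t' : G)⁻¹
        = (t' : G) * x * (t' : G)⁻¹ * ((t' : G) * (t' : G) * x * ((t' : G)⁻¹ * (t' : G)⁻¹)) := by
          group
      _ = (t' : G) * x * (t' : G)⁻¹ * x := by
          rw [htt, htinv, htt, one_mul, mul_one]
      _ = x * ((t' : G) * x * (t' : G)⁻¹) := hcomm.symm
  exact (eq_inv_of_mul_eq_one_right hφ)

open Classical in
/-- `br_inv_pairs` is the cardinality of `classPairs` -/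
theorem o57_pairs_eq [Fintype G] (z y : G) : br_inv_pairs z y = (classPairs z z y).card := by
  unfold br_inv_pairs classPairs
  congr

/-- **the number of pairs is exactly `p`** -/
theorem o57_pairs_card [Fintype G] (h : br_blk_IsData P X Y dl ep O) (hpodd : p % 2 = 1)
    (t : G) (ht : orderOf t = 2) (hinv : ∀ x : G, x ∈ (P : Subgroup G) → t * x * t⁻¹ = x⁻¹)
    (x : G) (hx : x ∈ (P : Subgroup G)) (hx1 : x ≠ 1)
    (hcent : Subgroup.centralizer ({x} : Set G) =
      Subgroup.centralizer ((P : Subgroup G) : Set G)) :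
    (classPairs t t x).card = p := by
  have htt : t * t = 1 := by
    have := pow_orderOf_eq_one t
    rwa [ht, pow_two] at this
  have htinv : t⁻¹ = t := inv_eq_of_mul_eq_one_left htt
  have ht1 : t ≠ 1 := by
    intro h0
    rw [h0, orderOf_one] at ht
    omega
  have htp : ¬ p ∣ orderOf t := by
    rw [ht]
    intro h2
    have := (Nat.prime_dvd_prime_iff_eq hp.out Nat.prime_two).mp h2
    omega
  -- `p ∣ N`
  have hdvd := o57_dvd_count h x hx t t htp ht1
  -- `N ≤ p`
  have hle : (classPairs t t x).card ≤ p := by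
    have h1 := br_inv_pairs_le t x htt
    rw [o57_pairs_eq, hcent, h.cent_P, h.card_P] at h1
    exact h1
  -- `N ≥ 1`
  have hpos : 0 < (classPairs t t x).card := by
    rw [Finset.card_pos]
    refine ⟨(t, t * x), ?_⟩
    rw [mem_classPairs]
    refine ⟨IsConj.refl t, ?_, ?_⟩
    · -- `w = x ^ ((p - 1) / 2)` conjugates `t` to `t x`
      have hxp : x ^ p = 1 := by
        rw [← o57_orderOf_of_mem h x hx hx1]
        exact pow_orderOf_eq_one x
      obtain ⟨w, hw⟩ : ∃ w : G, w = x ^ ((p - 1) / 2) := ⟨_, rfl⟩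
      have hwP : w ∈ (P : Subgroup G) := by rw [hw]; exact pow_mem hx _
      have hww : w * w = x⁻¹ := by
        rw [hw, ← pow_add]
        have h2 : (p - 1) / 2 + (p - 1) / 2 = p - 1 := by omega
        rw [h2]
        apply eq_inv_of_mul_eq_one_left
        rw [← pow_succ]
        have h3 : p - 1 + 1 = p := by have := hp.out.two_le; omega
        rw [h3, hxp]
      rw [isConj_iff]
      refine ⟨w, ?_⟩
      have h4 : t * w⁻¹ * t⁻¹ = w := by
        have := hinv w⁻¹ (inv_mem hwP)
        rwa [inv_inv] at this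
      have h5 : t * x * t⁻¹ = x⁻¹ := hinv x hx
      calc w * t * w⁻¹ = w * (t * w⁻¹ * t⁻¹) * t := by group
        _ = w * w * t := by rw [h4]
        _ = x⁻¹ * t := by rw [hww]
        _ = t * x * t⁻¹ * t := by rw [h5]
        _ = t * x := by group
    · show t * (t * x) = x
      rw [← mul_assoc, htt, one_mul]
  obtain ⟨k, hk⟩ := hdvd
  rw [hk] at hle hpos ⊢
  have hp0 : 0 < p := hp.out.pos
  have hk1 : k = 1 := by
    rcases Nat.eq_zero_or_pos k with h0 | h0
    · rw [h0, mul_zero] at hpos
      omega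
    · by_contra hne
      have h2 : 2 ≤ k := by omega
      have : p * 2 ≤ p * k := Nat.mul_le_mul_left p h2
      omega
  rw [hk1, mul_one]

end Cfsg.Agent.O57
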