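/-
Orders 5760 and 4320 (helper2): a `2`-central involution, i.e. an involution whose centralizer
contains a Sylow `2`-subgroup.
-/
import Mathlib
import Cfsg.Agent.Helper2.SylowExact2

set_option autoImplicit false
set_option linter.style.haveILetI false

namespace Cfsg.Agent.O57

open Cfsg.Agent.Helper2

universe u

variable {G : Type u} [Group G]

/-- **a `2`-central involution** -/
theorem o57_central_invol [Finite G] (k m : ℕ) (hk : 0 < k) (hG : Nat.card G = 2 ^ k * m)
    (hm : ¬ 2 ∣ m) :
    ∃ z : G, orderOf z = 2 ∧ 2 ^ k ∣ Nat.card (Subgroup.centralizer ({z} : Set G)) := by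
  haveI : Fact (Nat.Prime 2) := ⟨Nat.prime_two⟩
  let S : Sylow 2 G := default
  have hS : Nat.card (S : Subgroup G) = 2 ^ k :=
    SylowExact.card_sylow_of_exact_pow (s := 2) hG hm S
  have hSp : IsPGroup 2 (S : Subgroup G) := S.isPGroup'
  haveI : Nontrivial (S : Subgroup G) := by
    rw [← Finite.one_lt_card_iff_nontrivial, hS]
    exact Nat.one_lt_two_pow hk.ne'
  haveI := hSp.center_nontrivial
  have hZp : IsPGroup 2 (Subgroup.center (S : Subgroup G)) := hSp.to_subgroup _
  have h2 : 2 ∣ Nat.card (Subgroup.center (S : Subgroup G)) := by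
    obtain ⟨j, hj⟩ := hZp.exists_card_eq
    have h1 : 1 < Nat.card (Subgroup.center (S : Subgroup G)) :=
      Finite.one_lt_card_iff_nontrivial.mpr inferInstance
    rw [hj] at h1 ⊢
    rcases Nat.eq_zero_or_pos j with h0 | h0
    · rw [h0, pow_zero] at h1
      omega
    · exact dvd_pow_self 2 h0.ne'
  obtain ⟨z', hz'⟩ := exists_prime_orderOf_dvd_card' (G := Subgroup.center (S : Subgroup G)) 2 h2
  refine ⟨((z' : (S : Subgroup G)) : G), ?_, ?_⟩
  · rw [Subgroup.orderOf_coe, Subgroup.orderOf_coe]
    exact hz'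
  · rw [← hS]
    apply Subgroup.card_dvd_of_le
    intro s hs
    rw [Subgroup.mem_centralizer_iff]
    intro w hw
    rw [Set.mem_singleton_iff] at hw
    rw [hw]
    have h3 := Subgroup.mem_center_iff.mp z'.2 ⟨s, hs⟩
    exact congrArg Subtype.val h3.symm

end Cfsg.Agent.O57
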